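import Cfsg.Agent.H951.BR.Adapt
import Cfsg.Agent.H895.BR.SpModel
import Cfsg.Agent.H105.SzSp1

/-!
# Transitivity of `Sp` on the pairs of totally isotropic subspaces of the same type (S4891 [POL-SP-S2], helper951)
-/

set_option autoImplicit false

open Cfsg Module Cfsg.Agent.H2.Pol Cfsg.Agent.H623.BR Cfsg.Agent.H674.BR Cfsg.Agent.H895.BR
open Cfsg.Agent.ClassicalGeometry.SympBasic

namespace Cfsg.Agent.H951.BR

universe u

variable {F : Type u} [Field F] {m : ℕ}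

theorem spPol_swap (x y : Fin m ⊕ Fin m → F) :
    (spPol m F).L x y = (-1 : F) * (RingHom.id F) ((spPol m F).L y x) := by
  rw [spPol_L, spPol_L, sympForm_swap, RingHom.id_apply, neg_one_mul]

/-- pairs of the same type, any dimensions -/
theorem sp_pairs' {i j : ℕ} (U : (spPol m F).X i) (U2 : (spPol m F).X j) (W : (spPol m F).X i) (W2 : (spPol m F).X j)
    (h : typ (spPol m F) U.1 U2.1 = typ (spPol m F) W.1 W2.1) :
    ∃ g : Matrix.symplecticGroup (Fin m) F, (sp_acts (m := m) (F := F)).act i g U = W ∧ sp_acts.act j g U2 = W2 := by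
  obtain ⟨ι, _, f, g, hf, hg, hfg, -, -, hT⟩ := exists_adapted_pair (spPol m F) spPol_swap U.2.1 U2.2.1 W.2.1 W2.2.1
    (U.2.2.trans W.2.2.symm) (U2.2.2.trans W2.2.2.symm) h
  obtain ⟨T, hTi, hTf⟩ := Cfsg.Agent.H105.SzSp.witt (Cfsg.Agent.H955.isSp_sympBilin m F) f g hf.1 hg.1
    (fun i j => hfg j i)
  obtain ⟨A, hA⟩ := exists_spRho_eq (T : (Fin m ⊕ Fin m → F) →ₗ[F] (Fin m ⊕ Fin m → F)) hTi
  have hAT : ((spRho m F A : (Fin m ⊕ Fin m → F) ≃ₗ[F] (Fin m ⊕ Fin m → F)) :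
      (Fin m ⊕ Fin m → F) →ₗ[F] (Fin m ⊕ Fin m → F)) = (T : (Fin m ⊕ Fin m → F) →ₗ[F] (Fin m ⊕ Fin m → F)) :=
    LinearMap.ext hA
  obtain ⟨h1, h2⟩ := hT _ hTf
  refine ⟨A, Subtype.ext ?_, Subtype.ext ?_⟩
  · rw [Acts.act_val, hAT]
    exact h1
  · rw [Acts.act_val, hAT]
    exact h2

/-- **S4891 [POL-SP-S2]** -/
theorem sp_pairs {j : ℕ} (U U2 W W2 : (spPol m F).X j)
    (h : typ (spPol m F) U.1 U2.1 = typ (spPol m F) W.1 W2.1) :
    ∃ g : Matrix.symplecticGroup (Fin m) F, (sp_acts (m := m) (F := F)).act j g U = W ∧ sp_acts.act j g U2 = W2 :=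
  sp_pairs' U U2 W W2 h

end Cfsg.Agent.H951.BR
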