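import Cfsg.Agent.H623.BR.PolarA

/-!
# Adapted bases for a pair of totally singular subspaces (S4891, helper951)

For a polar structure `Φ` with `L x y = ε * σ (L y x)` (symplectic: `ε = -1`, `σ = id`; orthogonal: `ε = 1`, `σ = id`;
unitary: `ε = 1`, `σ` the involution) and totally singular `U`, `U2` there is a basis of `U ⊔ U2` containing bases of `U`
and of `U2`, whose Gram matrix is determined by `dim U`, `dim U2` and `typ Φ U U2`.
-/

set_option autoImplicit false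
set_option linter.unusedSectionVars false

open Module Cfsg.Agent.H2.Pol Cfsg.Agent.H623.BR

namespace Cfsg.Agent.H951.BR

section bs

variable {F V : Type*} [Field F] [AddCommGroup V] [Module F V]

/-- `v` is a basis of the subspace `A` -/
def Bs {ι : Type*} (v : ι → V) (A : Submodule F V) : Prop := LinearIndependent F v ∧ Submodule.span F (Set.range v) = A

theorem Bs.mem {ι : Type*} {v : ι → V} {A : Submodule F V} (h : Bs v A) (i : ι) : v i ∈ A := by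
  rw [← h.2]
  exact Submodule.subset_span ⟨i, rfl⟩

theorem Bs.sum {ι κ : Type*} {v : ι → V} {w : κ → V} {A B : Submodule F V} (hv : Bs v A) (hw : Bs w B)
    (h : Disjoint A B) : Bs (Sum.elim v w) (A ⊔ B) := by
  obtain ⟨h1, rfl⟩ := hv
  obtain ⟨h2, rfl⟩ := hw
  refine ⟨LinearIndependent.sum_type h1 h2 h, ?_⟩
  rw [Set.Sum.elim_range, Submodule.span_union]

theorem Bs.of_basis {ι : Type*} {A : Submodule F V} (b : Basis ι F A) : Bs (fun i => (b i : V)) A := by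
  refine ⟨b.linearIndependent.map' A.subtype (Submodule.ker_subtype A), ?_⟩
  have h1 : Set.range (fun i => (b i : V)) = A.subtype '' Set.range b := by
    rw [← Set.range_comp]
    rfl
  rw [h1, Submodule.span_image, b.span_eq, Submodule.map_top, Submodule.range_subtype]

theorem exists_bs [FiniteDimensional F V] (A : Submodule F V) {n : ℕ} (h : finrank F ↥A = n) :
    ∃ v : Fin n → V, Bs v A :=
  ⟨_, Bs.of_basis (finBasisOfFinrankEq F A h)⟩

/-- relative complements -/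
theorem exists_rel_compl {D K : Submodule F V} (h : D ≤ K) : ∃ C : Submodule F V, Disjoint D C ∧ D ⊔ C = K := by
  obtain ⟨D', hD'⟩ := exists_isCompl D
  refine ⟨D' ⊓ K, ?_, ?_⟩
  · exact hD'.disjoint.mono_right inf_le_left
  · rw [← sup_inf_assoc_of_le D' h, hD'.sup_eq_top, top_inf_eq]

theorem finrank_rel [FiniteDimensional F V] {D C K : Submodule F V} (h1 : Disjoint D C) (h2 : D ⊔ C = K) :
    finrank F ↥K = finrank F ↥D + finrank F ↥C := by
  have h3 := Submodule.finrank_sup_add_finrank_inf_eq D C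
  rw [h1.eq_bot, finrank_bot, h2, add_zero] at h3
  exact h3

end bs

section dual

variable {F V : Type*} [Field F] [AddCommGroup V] [Module F V] [FiniteDimensional F V]

/-- the pairing with a family -/
def pr {r : ℕ} (Φ : Pol F V) (y : Fin r → V) (X : Submodule F V) : ↥X →ₗ[F] (Fin r → F) :=
  LinearMap.pi fun i => (Φ.L (y i)).comp X.subtype

theorem pr_apply {r : ℕ} (Φ : Pol F V) (y : Fin r → V) (X : Submodule F V) (x : ↥X) (i : Fin r) :
    pr Φ y X x i = Φ.L (y i) x := rfl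

theorem pr_inj {r : ℕ} (Φ : Pol F V) {X Y : Submodule F V} (hX : ∀ x ∈ X, (∀ y ∈ Y, Φ.L x y = 0) → x = 0)
    {y : Fin r → V} (hy : Bs y Y) : Function.Injective (pr Φ y X) := by
  rw [← LinearMap.ker_eq_bot, eq_bot_iff]
  rintro ⟨x, hx⟩ h0
  rw [LinearMap.mem_ker] at h0
  rw [Submodule.mem_bot]
  apply Subtype.ext
  apply hX x hx
  intro z hz
  have h1 : Y ≤ LinearMap.ker (Φ.L x) := by
    rw [← hy.2, Submodule.span_le]
    rintro _ ⟨i, rfl⟩
    exact Φ.refl _ _ (congrFun h0 i)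
  exact h1 hz

theorem finrank_le_of_nd (Φ : Pol F V) {X Y : Submodule F V} (hX : ∀ x ∈ X, (∀ y ∈ Y, Φ.L x y = 0) → x = 0) :
    finrank F ↥X ≤ finrank F ↥Y := by
  obtain ⟨y, hy⟩ := exists_bs Y rfl
  have h1 := LinearMap.finrank_le_finrank_of_injective (pr_inj Φ hX hy)
  rwa [finrank_fin_fun] at h1

/-- dual bases -/
theorem exists_dual (Φ : Pol F V) {X Y : Submodule F V} (hX : ∀ x ∈ X, (∀ y ∈ Y, Φ.L x y = 0) → x = 0)
    (hY : ∀ y ∈ Y, (∀ x ∈ X, Φ.L y x = 0) → y = 0) {r : ℕ} (hr : finrank F ↥X = r) :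
    ∃ x y : Fin r → V, Bs x X ∧ Bs y Y ∧ ∀ i j, Φ.L (y i) (x j) = if i = j then 1 else 0 := by
  have h1 : finrank F ↥Y = r := by
    rw [← hr]
    exact le_antisymm (finrank_le_of_nd Φ hY) (finrank_le_of_nd Φ hX)
  obtain ⟨y, hy⟩ := exists_bs Y h1
  let e : ↥X ≃ₗ[F] (Fin r → F) := LinearEquiv.ofInjectiveOfFinrankEq (pr Φ y X) (pr_inj Φ hX hy)
    (by rw [hr, finrank_fin_fun])
  have he : ∀ x : ↥X, e x = pr Φ y X x := fun x => rfl
  refine ⟨_, y, Bs.of_basis ((Pi.basisFun F (Fin r)).map e.symm), hy, fun i j => ?_⟩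
  rw [← pr_apply, ← he, Basis.map_apply, LinearEquiv.apply_symm_apply, Pi.basisFun_apply, Pi.single_apply]

end dual

/-- the Gram matrix of an adapted basis -/
def gram {F : Type*} [Field F] (ε : F) {d a b r : ℕ} :
    ((Fin d ⊕ Fin a) ⊕ Fin r) ⊕ (Fin b ⊕ Fin r) → ((Fin d ⊕ Fin a) ⊕ Fin r) ⊕ (Fin b ⊕ Fin r) → F
  | Sum.inr (Sum.inr i), Sum.inl (Sum.inr j) => if i = j then 1 else 0
  | Sum.inl (Sum.inr j), Sum.inr (Sum.inr i) => ε * (if i = j then 1 else 0)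
  | _, _ => 0

section main

variable {F V : Type*} [Field F] [AddCommGroup V] [Module F V] [FiniteDimensional F V]

/-- `x ∈ U`, orthogonal to a complement `Y` of `U2 ∩ U^⊥` in `U2`, is orthogonal to `U2` -/
theorem mem_perp_of_compl (Φ : Pol F V) {U U2 Y : Submodule F V} (hY : (U2 ⊓ Φ.perp U) ⊔ Y = U2) {x : V} (hx : x ∈ U)
    (h : ∀ y ∈ Y, Φ.L x y = 0) : x ∈ Φ.perp U2 := by
  have h1 : U2 ≤ LinearMap.ker (Φ.L x) := by
    rw [← hY]
    refine sup_le ?_ h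
    rintro k ⟨_, hk⟩
    exact hk x hx
  intro y hy
  exact Φ.refl _ _ (h1 hy)

/-- the rank of the pairing -/
theorem finrank_perp_add (Φ : Pol F V) (U U2 : Submodule F V) :
    finrank F ↥U + finrank F ↥(U2 ⊓ Φ.perp U) = finrank F ↥U2 + finrank F ↥(U ⊓ Φ.perp U2) := by
  obtain ⟨X, hX, hX'⟩ := exists_rel_compl (inf_le_left : U ⊓ Φ.perp U2 ≤ U)
  obtain ⟨Y, hY, hY'⟩ := exists_rel_compl (inf_le_left : U2 ⊓ Φ.perp U ≤ U2)
  have hXU : X ≤ U := le_of_le_of_eq le_sup_right hX'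
  have hYU : Y ≤ U2 := le_of_le_of_eq le_sup_right hY'
  have hXn : ∀ x ∈ X, (∀ y ∈ Y, Φ.L x y = 0) → x = 0 := fun x hx h => by
    have := hX.le_bot ⟨⟨hXU hx, mem_perp_of_compl Φ hY' (hXU hx) h⟩, hx⟩
    exact this
  have hYn : ∀ y ∈ Y, (∀ x ∈ X, Φ.L y x = 0) → y = 0 := fun y hy h => by
    have := hY.le_bot ⟨⟨hYU hy, mem_perp_of_compl Φ hX' (hYU hy) h⟩, hy⟩
    exact this
  have h1 := le_antisymm (finrank_le_of_nd Φ hYn) (finrank_le_of_nd Φ hXn)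
  have h2 := finrank_rel hX hX'
  have h3 := finrank_rel hY hY'
  omega

/-- the dimensions -/
theorem exists_dims (Φ : Pol F V) {U U2 : Submodule F V} (hU : Φ.TI U) (hU2 : Φ.TI U2) :
    ∃ d a b r : ℕ, finrank F ↥(U ⊓ U2) = d ∧ finrank F ↥(U ⊓ Φ.perp U2) = d + a ∧ finrank F ↥U = d + a + r ∧
      finrank F ↥U2 = d + b + r := by
  have hK : U ⊓ U2 ≤ U ⊓ Φ.perp U2 := fun x hx => ⟨hx.1, fun y hy => hU2.2 x hx.2 y hy⟩
  have hK2 : U ⊓ U2 ≤ U2 ⊓ Φ.perp U := fun x hx => ⟨hx.2, fun y hy => hU.2 x hx.1 y hy⟩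
  have h1 := Submodule.finrank_mono hK
  have h2 := Submodule.finrank_mono hK2
  have h3 : finrank F ↥(U ⊓ Φ.perp U2) ≤ finrank F ↥U := Submodule.finrank_mono inf_le_left
  have h4 := finrank_perp_add Φ U U2
  refine ⟨_, finrank F ↥(U ⊓ Φ.perp U2) - finrank F ↥(U ⊓ U2), finrank F ↥(U2 ⊓ Φ.perp U) - finrank F ↥(U ⊓ U2),
    finrank F ↥U - finrank F ↥(U ⊓ Φ.perp U2), rfl, ?_, ?_, ?_⟩ <;> omega

/-- **adapted basis of a pair of totally singular subspaces** -/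
theorem exists_adapted (Φ : Pol F V) {σ : F →+* F} {ε : F} (hL : ∀ x y, Φ.L x y = ε * σ (Φ.L y x))
    {U U2 : Submodule F V} (hU : Φ.TI U) (hU2 : Φ.TI U2) {d a b r : ℕ} (h1 : finrank F ↥(U ⊓ U2) = d)
    (h2 : finrank F ↥(U ⊓ Φ.perp U2) = d + a) (h3 : finrank F ↥U = d + a + r) (h4 : finrank F ↥U2 = d + b + r) :
    ∃ f : ((Fin d ⊕ Fin a) ⊕ Fin r) ⊕ (Fin b ⊕ Fin r) → V, Bs f (U ⊔ U2) ∧
      Bs (f ∘ Sum.inl) U ∧ Bs (f ∘ Sum.elim (Sum.inl ∘ Sum.inl ∘ Sum.inl) Sum.inr) U2 ∧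
      (∀ i, f i ∈ U ∨ f i ∈ U2) ∧ ∀ i j, Φ.L (f i) (f j) = gram ε i j := by
  have hK : U ⊓ U2 ≤ U ⊓ Φ.perp U2 := fun x hx => ⟨hx.1, fun y hy => hU2.2 x hx.2 y hy⟩
  have hK2 : U ⊓ U2 ≤ U2 ⊓ Φ.perp U := fun x hx => ⟨hx.2, fun y hy => hU.2 x hx.1 y hy⟩
  obtain ⟨C, hC, hC'⟩ := exists_rel_compl hK
  obtain ⟨C2, hC2, hC2'⟩ := exists_rel_compl hK2
  obtain ⟨X, hX, hX'⟩ := exists_rel_compl (inf_le_left : U ⊓ Φ.perp U2 ≤ U)
  obtain ⟨Y, hY, hY'⟩ := exists_rel_compl (inf_le_left : U2 ⊓ Φ.perp U ≤ U2)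
  have hCK : C ≤ U ⊓ Φ.perp U2 := le_of_le_of_eq le_sup_right hC'
  have hC2K : C2 ≤ U2 ⊓ Φ.perp U := le_of_le_of_eq le_sup_right hC2'
  have hXU : X ≤ U := le_of_le_of_eq le_sup_right hX'
  have hYU : Y ≤ U2 := le_of_le_of_eq le_sup_right hY'
  -- the pairing of `X` and `Y`
  have hXn : ∀ x ∈ X, (∀ y ∈ Y, Φ.L x y = 0) → x = 0 := fun x hx h => by
    have := hX.le_bot ⟨⟨hXU hx, mem_perp_of_compl Φ hY' (hXU hx) h⟩, hx⟩
    exact this
  have hYn : ∀ y ∈ Y, (∀ x ∈ X, Φ.L y x = 0) → y = 0 := fun y hy h => by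
    have := hY.le_bot ⟨⟨hYU hy, mem_perp_of_compl Φ hX' (hYU hy) h⟩, hy⟩
    exact this
  have hrX : finrank F ↥X = r := by
    have := finrank_rel hX hX'
    omega
  have hrY : finrank F ↥Y = r := by
    rw [← hrX]
    exact le_antisymm (finrank_le_of_nd Φ hYn) (finrank_le_of_nd Φ hXn)
  have hrC : finrank F ↥C = a := by
    have := finrank_rel hC hC'
    omega
  have hrC2 : finrank F ↥C2 = b := by
    have := finrank_rel hC2 hC2'
    have := finrank_rel hY hY'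
    omega
  obtain ⟨t, ht⟩ := exists_bs _ h1
  obtain ⟨c, hc⟩ := exists_bs _ hrC
  obtain ⟨c2, hc2⟩ := exists_bs _ hrC2
  obtain ⟨x, y, hx, hy, hxy⟩ := exists_dual Φ hXn hYn hrX
  -- the two bases
  have hBU : Bs (Sum.elim (Sum.elim t c) x) U := by
    have h5 := ht.sum hc hC
    rw [hC'] at h5
    have h6 := h5.sum hx hX
    rwa [hX'] at h6
  have hB2 : Bs (Sum.elim c2 y) (C2 ⊔ Y) := hc2.sum hy (hY.mono_left hC2K)
  have hD2 : Disjoint (U ⊓ U2) (C2 ⊔ Y) := by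
    rw [← hC2'] at hY
    exact hC2.disjoint_sup_right_of_disjoint_sup_left hY
  have hU2e : U ⊓ U2 ⊔ (C2 ⊔ Y) = U2 := by rw [← sup_assoc, hC2', hY']
  have hBU2 : Bs (Sum.elim t (Sum.elim c2 y)) U2 := by
    have h5 := ht.sum hB2 hD2
    rwa [hU2e] at h5
  have hle2 : C2 ⊔ Y ≤ U2 := sup_le (hC2K.trans inf_le_left) hYU
  have hUd : Disjoint U (C2 ⊔ Y) := by
    rw [disjoint_iff_inf_le]
    intro z hz
    exact hD2.le_bot ⟨⟨hz.1, hle2 hz.2⟩, hz.2⟩
  have hB : Bs (Sum.elim (Sum.elim (Sum.elim t c) x) (Sum.elim c2 y)) (U ⊔ U2) := by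
    have h5 := hBU.sum hB2 hUd
    have h6 : U ⊔ (C2 ⊔ Y) = U ⊔ U2 := by
      apply le_antisymm (sup_le_sup_left hle2 _)
      conv_lhs => rw [← hU2e]
      exact sup_le le_sup_left (sup_le (inf_le_left.trans le_sup_left) le_sup_right)
    rwa [h6] at h5
  -- the positions
  have pt : ∀ i, t i ∈ U ∧ t i ∈ U2 := fun i => ht.mem i
  have pc : ∀ i, c i ∈ U ∧ c i ∈ Φ.perp U2 := fun i => hCK (hc.mem i)
  have pc2 : ∀ i, c2 i ∈ U2 ∧ c2 i ∈ Φ.perp U := fun i => hC2K (hc2.mem i)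
  have px : ∀ i, x i ∈ U := fun i => hXU (hx.mem i)
  have py : ∀ i, y i ∈ U2 := fun i => hYU (hy.mem i)
  refine ⟨_, hB, hBU, ?_, ?_, ?_⟩
  · convert hBU2 using 1
    ext (i | i) <;> rfl
  · rintro (((i | i) | i) | (i | i))
    · exact Or.inl (pt i).1
    · exact Or.inl (pc i).1
    · exact Or.inl (px i)
    · exact Or.inr (pc2 i).1
    · exact Or.inr (py i)
  · rintro (((i | i) | i) | (i | i)) (((j | j) | j) | (j | j))
    · exact hU.2 _ (pt j).1 _ (pt i).1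
    · exact hU.2 _ (pc j).1 _ (pt i).1
    · exact hU.2 _ (px j) _ (pt i).1
    · exact hU2.2 _ (pc2 j).1 _ (pt i).2
    · exact hU2.2 _ (py j) _ (pt i).2
    · exact hU.2 _ (pt j).1 _ (pc i).1
    · exact hU.2 _ (pc j).1 _ (pc i).1
    · exact hU.2 _ (px j) _ (pc i).1
    · exact (pc2 j).2 _ (pc i).1
    · exact Φ.refl _ _ ((pc i).2 _ (py j))
    · exact hU.2 _ (pt j).1 _ (px i)
    · exact hU.2 _ (pc j).1 _ (px i)
    · exact hU.2 _ (px j) _ (px i)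
    · exact (pc2 j).2 _ (px i)
    · show Φ.L (x i) (y j) = ε * (if j = i then 1 else 0)
      rw [hL, hxy]
      congr 1
      split_ifs
      · exact map_one σ
      · exact map_zero σ
    · exact hU2.2 _ (pt j).2 _ (pc2 i).1
    · exact (pc j).2 _ (pc2 i).1
    · exact Φ.refl _ _ ((pc2 i).2 _ (px j))
    · exact hU2.2 _ (pc2 j).1 _ (pc2 i).1
    · exact hU2.2 _ (py j) _ (pc2 i).1
    · exact hU2.2 _ (pt j).2 _ (py i)
    · exact (pc j).2 _ (py i)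
    · exact hxy i j
    · exact hU2.2 _ (pc2 j).1 _ (py i)
    · exact hU2.2 _ (py j) _ (py i)

/-- `v` is a basis of the subspace `A`: an isometry taking `v` to `w` takes `A` to the span of `w` -/
theorem Bs.map_eq {W : Type*} [AddCommGroup W] [Module F W] {ι : Type*} {v : ι → V} {A : Submodule F V} {w : ι → W}
    {B : Submodule F W} (hv : Bs v A) (hw : Bs w B) (g : V →ₗ[F] W) (h : ∀ i, g (v i) = w i) : A.map g = B := by
  rw [← hv.2, ← hw.2, Submodule.map_span, ← Set.range_comp]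
  congr 1
  congr 1
  exact funext h

/-- **pairs of the same type have adapted bases with the same Gram matrix** -/
theorem exists_adapted_pair (Φ : Pol F V) {σ : F →+* F} {ε : F} (hL : ∀ x y, Φ.L x y = ε * σ (Φ.L y x))
    {U U2 W W2 : Submodule F V} (hU : Φ.TI U) (hU2 : Φ.TI U2) (hW : Φ.TI W) (hW2 : Φ.TI W2)
    (h1 : finrank F ↥U = finrank F ↥W) (h2 : finrank F ↥U2 = finrank F ↥W2) (h : typ Φ U U2 = typ Φ W W2) :
    ∃ (ι : Type) (_ : Fintype ι) (f g : ι → V), Bs f (U ⊔ U2) ∧ Bs g (W ⊔ W2) ∧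
      (∀ i j, Φ.L (f i) (f j) = Φ.L (g i) (g j)) ∧ (∀ i, f i ∈ U ∨ f i ∈ U2) ∧ (∀ i, g i ∈ W ∨ g i ∈ W2) ∧
      ∀ T : V →ₗ[F] V, (∀ i, T (f i) = g i) → U.map T = W ∧ U2.map T = W2 := by
  obtain ⟨d, a, b, r, e1, e2, e3, e4⟩ := exists_dims Φ hU hU2
  unfold typ at h
  rw [Prod.mk.injEq] at h
  obtain ⟨f, f1, f2, f3, f4, f5⟩ := exists_adapted Φ hL hU hU2 e1 e2 e3 e4
  obtain ⟨g, g1, g2, g3, g4, g5⟩ := exists_adapted Φ hL hW hW2 (h.1.symm.trans e1) (h.2.symm.trans e2)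
    (h1.symm.trans e3) (h2.symm.trans e4)
  refine ⟨_, inferInstance, f, g, f1, g1, fun i j => ?_, f4, g4, fun T hT => ⟨?_, ?_⟩⟩
  · rw [f5, g5]
  · exact f2.map_eq g2 T fun i => hT _
  · exact f3.map_eq g3 T fun i => hT _

end main

end Cfsg.Agent.H951.BR
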